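import Cfsg.Agent.H789.MS.Cut
import Cfsg.Agent.H789.MS.HN25Data
import Cfsg.Agent.HN.RepData

/-!
# The check for the elements of order 25 of HN, piece A (41 products)
-/

set_option autoImplicit false
set_option maxRecDepth 100000

namespace Cfsg.Agent.H789.MS.HN25A

open Cfsg.Agent.Lib.PackMat Cfsg.Agent.Lib.PackMatGroup Cfsg.Agent.Lib.PackMatMul Cfsg.Agent.HN.RepData
open Cfsg.Agent.H789.MS.Cut Cfsg.Agent.H789.MS.HN25Data

/-- the steps -/
def ws : List (ℕ × List ℕ) := [
  (0, [4, 3, 4, 1, 3, 4, 0, 3, 2, 4, 2, 1, 4, 3, 3, 1, 2, 4, 0, 3, 4, 2, 4]),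
  (2, [5, 4, 5, 5, 4, 1, 4, 4, 5, 1, 1]), (1, [1]), (0, [0]), (2, [2]), (0, [0]), (2, [0, 5, 4])]

/-- their places in the complete list of results -/
def ps : List ℕ := [124, 123, 122, 121, 120, 119, 118]

/-- the places of the inputs -/
def cur : List ℕ := [126, 127, 128, 129, 130, 131, 132, 133]

/-- the packed matrices of the inputs -/
def Li : List ℕ := [X, XI, Y, YI, Z, Z, T, TI]

/-- the packed matrices of the results -/
def os : List (ℕ × ℕ) := [(6, M9), (1, M14), (0, M15)]

theorem chk : checkT C ws os Li = true := by decide +kernel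

end Cfsg.Agent.H789.MS.HN25A
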