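import Cfsg.Agent.H789.MS.Cut
import Cfsg.Agent.H789.MS.HN25Data
import Cfsg.Agent.HN.RepData

/-!
# The check for the elements of order 25 of HN, piece B (38 products)
-/

set_option autoImplicit false
set_option maxRecDepth 100000

namespace Cfsg.Agent.H789.MS.HN25B

open Cfsg.Agent.Lib.PackMat Cfsg.Agent.Lib.PackMatGroup Cfsg.Agent.Lib.PackMatMul Cfsg.Agent.HN.RepData
open Cfsg.Agent.H789.MS.Cut Cfsg.Agent.H789.MS.HN25Data

/-- the steps -/
def ws : List (ℕ × List ℕ) := [
  (4, [3, 1, 2, 2, 4, 3, 3, 0, 2, 0]), (3, [1, 3, 7]), (9, [5, 3, 5]), (2, [0, 2, 1]), (0, [0]), (0, [0]),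
  (4, [0]), (1, [3, 4]), (8, [8]), (2, [0, 1]), (0, [20]), (0, [0]), (0, [0, 1]), (0, [0, 0]), (1, [22, 0]),
  (23, [23, 24, 0])]

/-- their places in the complete list of results -/
def ps : List ℕ := [117, 116, 115, 114, 113, 112, 111, 110, 109, 108, 107, 106, 105, 104, 103, 101]

/-- the places of the inputs -/
def cur : List ℕ := [126, 127, 128, 129, 130, 131, 132, 133, 124, 119, 118]

/-- the packed matrices of the inputs -/
def Li : List ℕ := [X, XI, Y, YI, Z, Z, T, TI, M9, M14, M15]

/-- the packed matrices of the results -/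
def os : List (ℕ × ℕ) := [(15, M16), (3, M28), (0, M32)]

theorem chk : checkT C ws os Li = true := by decide +kernel

end Cfsg.Agent.H789.MS.HN25B
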