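import Cfsg.Agent.H789.MS.Cut
import Cfsg.Agent.H789.MS.HN25Data
import Cfsg.Agent.HN.RepData

/-!
# The check for the elements of order 25 of HN, piece C (57 products)
-/

set_option autoImplicit false
set_option maxRecDepth 100000

namespace Cfsg.Agent.H789.MS.HN25C

open Cfsg.Agent.Lib.PackMat Cfsg.Agent.Lib.PackMatGroup Cfsg.Agent.Lib.PackMatMul Cfsg.Agent.HN.RepData
open Cfsg.Agent.H789.MS.Cut Cfsg.Agent.H789.MS.HN25Data

/-- the steps -/
def ws : List (ℕ × List ℕ) := [
  (4, [2, 2, 4, 0, 2, 4, 0, 3, 0, 2]), (0, [0]), (0, [0, 1]), (10, [10, 0, 9, 9]), (14, [0]), (0, [0]),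
  (0, [0]), (0, [0, 14, 14]), (14, [14, 1, 2, 3]), (15, [19, 16, 19, 15]), (17, [20, 16, 20, 17]),
  (13, [21, 14, 21, 13]), (15, [22, 14, 22, 15]), (4, [3, 1, 3, 13, 0]), (2, [15, 3, 1, 3, 6]), (0, [24, 1]),
  (2, [24, 1])]

/-- their places in the complete list of results -/
def ps : List ℕ := [100, 99, 98, 97, 96, 95, 94, 93, 92, 91, 90, 89, 88, 87, 86, 85, 83]

/-- the places of the inputs -/
def cur : List ℕ := [126, 127, 128, 129, 130, 131, 132, 133, 124, 118, 117]

/-- the packed matrices of the inputs -/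
def Li : List ℕ := [X, XI, Y, YI, Z, Z, T, TI, M9, M15, M16]

/-- the packed matrices of the results -/
def os : List (ℕ × ℕ) := [(3, M46), (2, M47), (1, M48), (0, M50)]

theorem chk : checkT C ws os Li = true := by decide +kernel

end Cfsg.Agent.H789.MS.HN25C
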