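import Cfsg.Agent.H789.MS.Cut
import Cfsg.Agent.H789.MS.HN25Data
import Cfsg.Agent.HN.RepData

/-!
# The check for the elements of order 25 of HN, piece D (26 products)
-/

set_option autoImplicit false
set_option maxRecDepth 100000

namespace Cfsg.Agent.H789.MS.HN25D

open Cfsg.Agent.Lib.PackMat Cfsg.Agent.Lib.PackMatGroup Cfsg.Agent.Lib.PackMatMul Cfsg.Agent.HN.RepData
open Cfsg.Agent.H789.MS.Cut Cfsg.Agent.H789.MS.HN25Data

/-- the steps -/
def ws : List (ℕ × List ℕ) := [
  (4, [2, 2, 5]), (7, [7]), (0, [0]), (0, [3, 3, 3]), (0, [3]), (1, [0]), (2, [0]), (3, [0]), (11, [15]),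
  (12, [0]), (13, [0]), (14, [0]), (3, [7, 3]), (3, [7, 3]), (3, [7, 3]), (3, [7, 3]), (17, [15, 17])]

/-- their places in the complete list of results -/
def ps : List ℕ := [16, 15, 14, 13, 12, 11, 10, 9, 8, 7, 6, 5, 4, 3, 2, 1, 0]

/-- the places of the inputs -/
def cur : List ℕ := [124, 118, 105, 101, 87, 86, 85, 83]

/-- the packed matrices of the inputs -/
def Li : List ℕ := [M9, M15, M28, M32, M46, M47, M48, M50]

/-- the equalities -/
def es : List (ℕ × ℕ) := [(0, 16), (1, 9), (2, 10), (3, 11), (4, 12)]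

theorem chk : checkS C ws es [] Li = true := by decide +kernel

end Cfsg.Agent.H789.MS.HN25D
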