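import Cfsg.Agent.Lib.PackMatMul

/-!
# Straight line programs over packed matrices, checked in pieces

A long check `checkS C P es ns L` needs about 40 MB of memory for each product of 133-dimensional matrices.  Here the
program is cut: a piece is a short program `ws` whose inputs are entries of the list of all results of `P` (given by
packed matrices, literals) and whose results are again entries of this list (`simB`, `sim_sound`); `checkT` compares
the results with literals, which are the inputs of the next pieces.
-/

set_option autoImplicit false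

namespace Cfsg.Agent.H789.MS.Cut

open Cfsg.Agent.Lib.PackMat Cfsg.Agent.Lib.PackMatGroup Cfsg.Agent.Lib.PackMatMul

variable {C : Cfg}

/-- The results with the given indices have the given codes. -/
noncomputable def outS (os : List (ℕ × ℕ)) (L : List ℕ) : Bool :=
  List.rec true (fun q _ ih => bif Nat.beq (get L q.1) q.2 then ih else false) os

/-- Run a piece, compare results with given codes. -/
noncomputable def checkT (C : Cfg) (ws : List (ℕ × List ℕ)) (os : List (ℕ × ℕ)) (L : List ℕ) : Bool :=
  bif okS ws L.length then
    withM C fun f => runS f ws L fun L => outS os L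
  else false

theorem runG_length {G : Type*} [Group G] (ws : List (ℕ × List ℕ)) (LG : List G) :
    (runG ws LG).length = ws.length + LG.length := by
  induction ws generalizing LG with
  | nil => rw [runG_nil, List.length_nil, zero_add]
  | cons w ws ih => rw [runG_cons, ih, List.length_cons, List.length_cons]; omega

theorem outS_sound {os : List (ℕ × ℕ)} {LG : List (U C)} {L : List ℕ} (h : List.Forall₂ (CodesR C) LG L)
    (he : outS os L = true) (hr : ∀ q ∈ os, q.1 < L.length) :
    ∀ q ∈ os, CodesR C (LG.getD q.1 1) q.2 := by
  induction os with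
  | nil => intro q hq; simp at hq
  | cons a os ih =>
    have he' : (bif Nat.beq (get L a.1) a.2 then outS os L else false) = true := he
    rcases hb : Nat.beq (get L a.1) a.2 with _ | _
    · rw [hb] at he'; simp at he'
    rw [hb, cond_true] at he'
    intro q hq
    rcases List.mem_cons.mp hq with rfl | hq
    · rw [← Nat.eq_of_beq_eq_true hb]
      exact codesR_get h (hr q List.mem_cons_self)
    · exact ih he' (fun q hq => hr q (List.mem_cons_of_mem _ hq)) q hq

/-- Soundness of the check of a piece. -/
theorem checkT_sound (hC : Good C) {LG : List (U C)} {L : List ℕ} (h : List.Forall₂ (CodesR C) LG L)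
    {ws : List (ℕ × List ℕ)} {os : List (ℕ × ℕ)} (hc : checkT C ws os L = true)
    (hr : ∀ q ∈ os, q.1 < ws.length + L.length) :
    ∀ q ∈ os, CodesR C ((runG ws LG).getD q.1 1) q.2 := by
  unfold checkT at hc
  rcases h1 : okS ws L.length with _ | _
  · rw [h1] at hc; simp at hc
  rw [h1, cond_true, withM_eq] at hc
  obtain ⟨L', hL', hk⟩ := runS_sound hC h h1 hc
  have hlen : L'.length = ws.length + L.length := by
    rw [← hL'.length_eq, runG_length, h.length_eq]
  exact outS_sound hL' hk fun q hq => by rw [hlen]; exact hr q hq

/-! ### Pieces of a program -/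

/-- product -/
def evF {G : Type*} [Group G] (f : ℕ → G) : List ℕ → G
  | [] => 1
  | i :: w => f i * evF f w

theorem evG_eq {G : Type*} [Group G] (LG : List G) (f : ℕ → G) (h : ∀ m, LG.getD m 1 = f m) (w : List ℕ) :
    evG LG w = evF f w := by
  induction w with
  | nil => rfl
  | cons i w ih => rw [evG_cons, h, ih]; rfl

theorem evG_map_getD {G : Type*} [Group G] (f : ℕ → G) (cur w : List ℕ) (h : w.all (fun m => Nat.blt m cur.length) = true) :
    evG (cur.map f) w = evF f (w.map fun m => cur.getD m 0) := by
  induction w with
  | nil => rfl
  | cons i w ih =>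
    rw [List.all_cons, Bool.and_eq_true] at h
    have hi : i < cur.length := by simpa [Nat.blt_eq] using h.1
    rw [evG_cons, ih h.2, List.map_cons]
    change _ = f (cur.getD i 0) * _
    congr 1
    rw [List.getD_eq_getElem?_getD, List.getD_eq_getElem?_getD, List.getElem?_map, List.getElem?_eq_getElem hi]
    rfl

theorem evF_shift {G : Type*} [Group G] (f : ℕ → G) (p : ℕ) (w : List ℕ) :
    evF (fun m => f (p + 1 + m)) w = evF f (w.map fun m => p + 1 + m) := by
  induction w with
  | nil => rfl
  | cons i w ih => rw [List.map_cons]; change f _ * _ = f _ * _; rw [ih]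

theorem runG_getD {G : Type*} [Group G] (ws : List (ℕ × List ℕ)) (LG : List G) (m : ℕ) :
    (runG ws LG).getD (ws.length + m) 1 = LG.getD m 1 := by
  induction ws generalizing LG m with
  | nil => rw [List.length_nil, zero_add]; rfl
  | cons w ws ih =>
    rw [runG_cons, List.length_cons, show ws.length + 1 + m = ws.length + (m + 1) by ring, ih, List.getD_cons_succ]

theorem runG_step {G : Type*} [Group G] (ws : List (ℕ × List ℕ)) (LG : List G) (i : ℕ) (hi : i < ws.length) :
    (runG ws LG).getD i 1 = evF (fun m => (runG ws LG).getD (i + 1 + m) 1)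
      ((ws.reverse.getD i (0, [])).1 :: (ws.reverse.getD i (0, [])).2) := by
  induction ws generalizing LG with
  | nil => exact absurd hi (by simp)
  | cons w ws ih =>
    rw [List.length_cons] at hi
    rcases Nat.lt_succ_iff_lt_or_eq.1 hi with h | h
    · have h1 : (w :: ws).reverse.getD i (0, []) = ws.reverse.getD i (0, []) := by
        rw [List.reverse_cons, List.getD_eq_getElem?_getD, List.getD_eq_getElem?_getD,
          List.getElem?_append_left (by simpa using h)]
      rw [h1, runG_cons]
      exact ih _ h
    · have h1 : (w :: ws).reverse.getD i (0, []) = w := by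
        rw [List.reverse_cons, List.getD_eq_getElem?_getD, List.getElem?_append_right (by simp [h])]
        simp [h]
      rw [h1]
      have h2 : ∀ m, LG.getD m 1 = (runG (w :: ws) LG).getD (i + 1 + m) 1 := by
        intro m
        have h3 := runG_getD (w :: ws) LG m
        rw [List.length_cons, ← h] at h3
        exact h3.symm
      rw [← evG_eq LG _ h2, runG_cons]
      have h3 := runG_getD ws (evG LG (w.1 :: w.2) :: LG) 0
      rw [add_zero, ← h, List.getD_cons_zero] at h3
      exact h3

/-- The steps `ws` of a piece with inputs `cur` are the steps with final indices `ps` of the program with reversed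
list of steps `Pr`. -/
def simB (Pr : List (ℕ × List ℕ)) : List (ℕ × List ℕ) → List ℕ → List ℕ → Bool
  | [], [], _ => true
  | w :: ws, p :: ps, cur =>
    Nat.blt p Pr.length && ((w.1 :: w.2).all (fun m => Nat.blt m cur.length) &&
      (((((Pr.getD p (0, [])).1 :: (Pr.getD p (0, [])).2).map fun m => p + 1 + m) ==
        ((w.1 :: w.2).map fun m => cur.getD m 0)) && simB Pr ws ps (p :: cur)))
  | _, _, _ => false

theorem sim_sound {G : Type*} [Group G] (P : List (ℕ × List ℕ)) (LG : List G) {ws : List (ℕ × List ℕ)}
    {ps cur : List ℕ} (h : simB P.reverse ws ps cur = true) :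
    runG ws (cur.map fun i => (runG P LG).getD i 1) =
      (ps.reverse ++ cur).map fun i => (runG P LG).getD i 1 := by
  induction ws generalizing ps cur with
  | nil =>
    cases ps with
    | nil => rfl
    | cons p ps => simp [simB] at h
  | cons w ws ih =>
    cases ps with
    | nil => simp [simB] at h
    | cons p ps =>
      rw [simB, Bool.and_eq_true, Bool.and_eq_true, Bool.and_eq_true] at h
      obtain ⟨h1, h2, h3, h4⟩ := h
      have hp : p < P.length := by simpa [Nat.blt_eq] using h1
      have h5 := eq_of_beq h3
      rw [runG_cons, evG_map_getD _ _ _ h2, ← h5, ← evF_shift, ← runG_step P LG p hp]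
      have h6 := ih h4
      rw [List.map_cons] at h6
      rw [h6]
      simp

/-- entry of a mapped list -/
theorem map_getD {G : Type*} [Group G] (f : ℕ → G) (l : List ℕ) {i : ℕ} (hi : i < l.length) :
    (l.map f).getD i 1 = f (l.getD i 0) := by
  rw [List.getD_eq_getElem?_getD, List.getD_eq_getElem?_getD, List.getElem?_map, List.getElem?_eq_getElem hi]
  rfl

/-- Results of a piece as entries of the complete list. -/
theorem piece_sound (hC : Good C) {P : List (ℕ × List ℕ)} {LG : List (U C)} {ws : List (ℕ × List ℕ)}
    {ps cur L : List ℕ} {os : List (ℕ × ℕ)}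
    (h : List.Forall₂ (CodesR C) (cur.map fun i => (runG P LG).getD i 1) L)
    (hs : simB P.reverse ws ps cur = true) (hc : checkT C ws os L = true)
    (hr : ∀ q ∈ os, q.1 < ws.length + L.length) :
    ∀ q ∈ os, CodesR C ((runG P LG).getD ((ps.reverse ++ cur).getD q.1 0) 1) q.2 := by
  intro q hq
  have h1 := checkT_sound hC h hc hr q hq
  have h2 := sim_sound P LG hs
  have h3 : (ps.reverse ++ cur).length = ws.length + L.length := by
    have h4 := congrArg List.length h2
    rw [runG_length, List.length_map, List.length_map] at h4
    rw [← h4, ← h.length_eq, List.length_map]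
  rw [h2, map_getD _ _ (by rw [h3]; exact hr q hq)] at h1
  exact h1

/-- Equalities of results of a piece as entries of the complete list. -/
theorem piece_eq (hC : Good C) {P : List (ℕ × List ℕ)} {LG : List (U C)} {ws : List (ℕ × List ℕ)}
    {ps cur L : List ℕ} {es ns : List (ℕ × ℕ)}
    (h : List.Forall₂ (CodesR C) (cur.map fun i => (runG P LG).getD i 1) L)
    (hs : simB P.reverse ws ps cur = true) (hc : checkS C ws es ns L = true)
    (hr : ∀ q ∈ es ++ ns, q.1 < ws.length + L.length ∧ q.2 < ws.length + L.length) :
    (∀ q ∈ es, (runG P LG).getD ((ps.reverse ++ cur).getD q.1 0) 1 =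
      (runG P LG).getD ((ps.reverse ++ cur).getD q.2 0) 1) ∧
    (∀ q ∈ ns, (runG P LG).getD ((ps.reverse ++ cur).getD q.1 0) 1 ≠
      (runG P LG).getD ((ps.reverse ++ cur).getD q.2 0) 1) := by
  have h1 := checkS_sound hC h hc hr
  have h2 := sim_sound P LG hs
  have h3 : (ps.reverse ++ cur).length = ws.length + L.length := by
    have h4 := congrArg List.length h2
    rw [runG_length, List.length_map, List.length_map] at h4
    rw [← h4, ← h.length_eq, List.length_map]
  rw [h2] at h1
  constructor
  · intro q hq
    have h4 := hr q (List.mem_append_left _ hq)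
    have h5 := h1.1 q hq
    rwa [map_getD _ _ (by rw [h3]; exact h4.1), map_getD _ _ (by rw [h3]; exact h4.2)] at h5
  · intro q hq
    have h4 := hr q (List.mem_append_right _ hq)
    have h5 := h1.2 q hq
    rwa [map_getD _ _ (by rw [h3]; exact h4.1), map_getD _ _ (by rw [h3]; exact h4.2)] at h5

end Cfsg.Agent.H789.MS.Cut
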